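import Groth.Agent.Pi1.K587.D1PartA2

/-!
# Part A of D1-ES: assembly
-/

set_option autoImplicit false
universe u

open CategoryTheory CategoryTheory.Limits AlgebraicGeometry IsLocalRing

namespace K587.D1

open Groth.Agent.Etrest.StrictLoc K868.Bc K260.D1

theorem lift_congr' {X Y Z A : Scheme.{u}} {f : X ⟶ Z} {g : Y ⟶ Z} {x : A ⟶ X} {y y' : A ⟶ Y} (h : y = y')
    (e : x ≫ f = y ≫ g) (e' : x ≫ f = y' ≫ g) : pullback.lift x y e = pullback.lift x y' e' := by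
  subst h
  rfl

/-- **Part A.** -/
theorem partA (h₁ : Ext.{u}) (h₂ : CobA.{u}) (h₃ : CmpEx.{u}) (h₄ : ResTw.{u}) (h₅ : ResDel.{u}) :
    PartA.{u} := by
  intro R _ _ hR hs X Z W T p j w t hp hj hqc hw hA G _ _ hL P₀ ρ₀ hP
  obtain ⟨n, B, b, F, k, hbe, hcov, hk, hH⟩ := h₂ R hR p j w t hp hj hqc hw hA G hL P₀ ρ₀ hP
  have ht := hA.integral
  choose i v hv using (fun z : {z : Z // p z = closedPoint R} => hcov z.1 z.2)
  have hy : ∀ z, p (b (i z) (v z)) = closedPoint R := fun z => by rw [hv z]; exact z.2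
  choose M m hm y' hy' k' hk' hK using
    fun z => exists_extend p t (b (i z)) h₁ ht (k (i z)) (hk (i z)) (v z) (hy z)
  choose F₁ r hr hτ using
    fun z => h₄ j w t G P₀ ρ₀ (b (i z)) (F (i z)) (m z) (m z ≫ b (i z)) rfl (k' z) (hk' z)
  refine ⟨{z : Z // p z = closedPoint R}, M, fun z => m z ≫ b (i z), F₁, ?_, ?_, ?_⟩
  · intro z
    have := hm z
    have := hbe (i z)
    infer_instance
  · intro z hz
    refine ⟨⟨z, hz⟩, y' ⟨z, hz⟩, ?_⟩
    rw [Scheme.Hom.comp_apply, hy', hv]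
  · intro z z' y hyz
    let μ : pullback (m z ≫ b (i z)) (m z' ≫ b (i z')) ⟶ pullback (b (i z)) (b (i z')) :=
      pullback.lift (pullback.fst (m z ≫ b (i z)) (m z' ≫ b (i z')) ≫ m z)
        (pullback.snd (m z ≫ b (i z)) (m z' ≫ b (i z')) ≫ m z')
        (by rw [Category.assoc, Category.assoc, pullback.condition])
    have hμ1 : μ ≫ pullback.fst (b (i z)) (b (i z')) = pullback.fst (m z ≫ b (i z)) (m z' ≫ b (i z')) ≫ m z :=
      pullback.lift_fst _ _ _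
    have hμ2 : μ ≫ pullback.snd (b (i z)) (b (i z')) = pullback.snd (m z ≫ b (i z)) (m z' ≫ b (i z')) ≫ m z' :=
      pullback.lift_snd _ _ _
    have hμy : p (b (i z) (pullback.fst (b (i z)) (b (i z')) (μ y))) = closedPoint R := by
      rw [← hyz, ← Scheme.Hom.comp_apply μ, hμ1, Scheme.Hom.comp_apply, ← Scheme.Hom.comp_apply (m z)]
    obtain ⟨C, y₁, hy₁⟩ := h₃ R p j w t hj hqc hw hA G hL P₀ ρ₀ hP (b (i z)) (b (i z')) (hbe _) (hbe _)
      (F (i z)) (F (i z')) (μ y) hμy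
    refine cohAt_of p (F (i z)) (F (i z')) (m z) (m z') h₅ ht (F₁ z) (F₁ z') (r z) (r z') (hr z) (hr z')
      (k' z) (k' z') (hk' z) (hk' z') (hτ z) (hτ z') C ?_ y hyz μ hμ1 hμ2 y₁ hy₁
    intro K _ _ z0 l₀ l l' e1 e2 e₀ e e'
    have a1 : z0 ≫ pullback.fst (t ≫ p) (resPt R) ≫ t = (l₀ ≫ C.m) ≫ b (i z) := by
      rw [← Category.assoc, e₀, Category.assoc]
    have a3 : z0 ≫ pullback.fst (t ≫ p) (resPt R) ≫ t = (l ≫ m z) ≫ b (i z) := by
      rw [← Category.assoc, e, Category.assoc]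
    have a4 : z0 ≫ pullback.fst (t ≫ p) (resPt R) ≫ t = (l' ≫ m z') ≫ b (i z') := by
      rw [← Category.assoc, e', Category.assoc]
    have a2 : z0 ≫ pullback.fst (t ≫ p) (resPt R) ≫ t = (l₀ ≫ C.m') ≫ b (i z') := by
      rw [a4, e2]
    rw [hH (i z) (i z') C K z0 l₀ a1 a2 e₀, hK z K z0 l a3 e, hK z' K z0 l' a4 e',
      lift_congr' e1 a1 a3, lift_congr' e2 a2 a4]

end K587.D1
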