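import Groth.Agent.Pi1.K260.D1Plan2

/-!
# Part A of D1-ES: the closed fibre of `T ×_Z B` and the extension of the cochain
-/

set_option autoImplicit false
universe u

open CategoryTheory CategoryTheory.Limits AlgebraicGeometry IsLocalRing

namespace K587.D1

open Groth.Agent.Etrest.StrictLoc K868.Bc K260.D1

section Phi

variable {R : Type u} [CommRing R] [IsLocalRing R] {Z T B M : Scheme.{u}} (p : Z ⟶ Spec (CommRingCat.of R))
  (t : T ⟶ Z) (b : B ⟶ Z)

/-- `T_s ×_Z B ⟶ T ×_Z B` -/
noncomputable def phi : pullback (pullback.fst (t ≫ p) (resPt R) ≫ t) b ⟶ pullback t b :=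
  pullback.lift (pullback.fst _ _ ≫ pullback.fst (t ≫ p) (resPt R)) (pullback.snd _ _)
    (by rw [Category.assoc, pullback.condition])

theorem phi_fst : phi p t b ≫ pullback.fst t b = pullback.fst _ _ ≫ pullback.fst (t ≫ p) (resPt R) :=
  pullback.lift_fst _ _ _

theorem phi_snd : phi p t b ≫ pullback.snd t b = pullback.snd _ _ := pullback.lift_snd _ _ _

theorem isPullback_phi : IsPullback (phi p t b)
    (pullback.fst (pullback.fst (t ≫ p) (resPt R) ≫ t) b ≫ pullback.snd (t ≫ p) (resPt R))
    (pullback.fst t b ≫ t ≫ p) (resPt R) := by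
  have h1 : IsPullback (pullback.snd t b) (pullback.fst t b) b t := (IsPullback.of_hasPullback t b).flip
  have h2 : IsPullback (pullback.snd (pullback.fst (t ≫ p) (resPt R) ≫ t) b)
    (pullback.fst (pullback.fst (t ≫ p) (resPt R) ≫ t) b) b (pullback.fst (t ≫ p) (resPt R) ≫ t) :=
    (IsPullback.of_hasPullback _ _).flip
  rw [← phi_snd p t b] at h2
  have h3 := IsPullback.of_right h2 (phi_fst p t b) h1
  exact h3.paste_vert (IsPullback.of_hasPullback (t ≫ p) (resPt R))

instance isClosedImmersion_phi : IsClosedImmersion (phi p t b) := by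
  have h : IsClosedImmersion (resPt R) := IsClosedImmersion.spec_of_surjective _ (residue_surjective)
  exact MorphismProperty.of_isPullback (P := @IsClosedImmersion) (isPullback_phi p t b).flip h

theorem range_phi : Set.range (phi p t b) = {a | p (t (pullback.fst t b a)) = closedPoint R} := by
  have hp := isPullback_phi p t b
  have h1 : Set.range (phi p t b) = (pullback.fst t b ≫ t ≫ p) ⁻¹' Set.range (resPt R) := by
    rw [← Scheme.Pullback.range_fst]
    ext x
    constructor
    · rintro ⟨z, rfl⟩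
      refine ⟨hp.isoPullback.hom z, ?_⟩
      rw [← Scheme.Hom.comp_apply, hp.isoPullback_hom_fst]
    · rintro ⟨z, rfl⟩
      refine ⟨hp.isoPullback.inv z, ?_⟩
      rw [← Scheme.Hom.comp_apply, hp.isoPullback_inv_fst]
  rw [h1]
  ext a
  constructor
  · rintro ⟨y, hy⟩
    have h2 := resPt_closedPoint R y
    rw [hy] at h2
    rw [Scheme.Hom.comp_apply, Scheme.Hom.comp_apply] at h2
    exact h2
  · intro h
    refine ⟨closedPoint (ResidueField R), (resPt_closedPoint R _).trans ?_⟩
    rw [Scheme.Hom.comp_apply, Scheme.Hom.comp_apply]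
    exact h.symm

theorem lift_phi {A : Scheme.{u}} (z : A ⟶ pullback (t ≫ p) (resPt R)) (l : A ⟶ B)
    (e : z ≫ pullback.fst (t ≫ p) (resPt R) ≫ t = l ≫ b)
    (e' : (z ≫ pullback.fst (t ≫ p) (resPt R)) ≫ t = l ≫ b) :
    pullback.lift z l e ≫ phi p t b = pullback.lift (z ≫ pullback.fst (t ≫ p) (resPt R)) l e' := by
  apply pullback.hom_ext
  · rw [Category.assoc, phi_fst, pullback.lift_fst_assoc, pullback.lift_fst]
  · rw [Category.assoc, phi_snd, pullback.lift_snd, pullback.lift_snd]

/-- Geometric points of the closed fibre of `T ×_Z B`. -/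
theorem exists_pt_closed (a : ↥(pullback t b)) (ha : p (t (pullback.fst t b a)) = closedPoint R) :
    ∃ (K : Type u) (_ : Field K) (_ : IsAlgClosed K) (z : Spec (CommRingCat.of K) ⟶ pullback (t ≫ p) (resPt R))
      (l : Spec (CommRingCat.of K) ⟶ B) (_ : z ≫ pullback.fst (t ≫ p) (resPt R) ≫ t = l ≫ b)
      (e' : (z ≫ pullback.fst (t ≫ p) (resPt R)) ≫ t = l ≫ b),
      pullback.lift (z ≫ pullback.fst (t ≫ p) (resPt R)) l e' default = a := by
  have h1 : a ∈ Set.range (phi p t b) := by rw [range_phi]; exact ha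
  obtain ⟨q, rfl⟩ := h1
  obtain ⟨K, _, _, κ, rfl⟩ := K260.Dif.exists_pt q
  have e : (κ ≫ pullback.fst _ _) ≫ pullback.fst (t ≫ p) (resPt R) ≫ t = (κ ≫ pullback.snd _ _) ≫ b := by
    rw [Category.assoc, pullback.condition, Category.assoc]
  have e' : ((κ ≫ pullback.fst _ _) ≫ pullback.fst (t ≫ p) (resPt R)) ≫ t = (κ ≫ pullback.snd _ _) ≫ b := by
    rw [Category.assoc, e]
  refine ⟨K, inferInstance, inferInstance, κ ≫ pullback.fst _ _, κ ≫ pullback.snd _ _, e, e', ?_⟩
  rw [← lift_phi p t b _ _ e e', Scheme.Hom.comp_apply]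
  congr 1
  have : pullback.lift (κ ≫ pullback.fst _ _) (κ ≫ pullback.snd _ _) e = κ := by
    apply pullback.hom_ext
    · rw [pullback.lift_fst]
    · rw [pullback.lift_snd]
  rw [this]

/-- Extension of the cochain from the closed fibre. -/
theorem exists_extend (h₁ : Ext.{u}) (ht : IsIntegralHom t) {G : Type} [Finite G]
    (k : ↥(pullback (pullback.fst (t ≫ p) (resPt R) ≫ t) b) → G) (hk : IsLocallyConstant k) (y : B)
    (hy : p (b y) = closedPoint R) :
    ∃ (M : Scheme.{u}) (m : M ⟶ B) (_ : Etale m) (y' : M) (_ : m y' = y) (k' : ↥(pullback t (m ≫ b)) → G),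
      IsLocallyConstant k' ∧ ∀ (K : Type u) [Field K] [IsAlgClosed K]
        (z : Spec (CommRingCat.of K) ⟶ pullback (t ≫ p) (resPt R)) (l : Spec (CommRingCat.of K) ⟶ M)
        (e : z ≫ pullback.fst (t ≫ p) (resPt R) ≫ t = (l ≫ m) ≫ b)
        (e' : (z ≫ pullback.fst (t ≫ p) (resPt R)) ≫ t = l ≫ m ≫ b),
        k' (pullback.lift (z ≫ pullback.fst (t ≫ p) (resPt R)) l e' default) =
          k (pullback.lift z (l ≫ m) e default) := by
  let F : Set B := {y | p (b y) = closedPoint R}
  have hF : IsClosed F := by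
    have h1 : F = (b ≫ p) ⁻¹' {closedPoint R} := by
      ext a
      change p (b a) = _ ↔ (b ≫ p) a = _
      rw [Scheme.Hom.comp_apply]
    rw [h1]
    exact (isClosed_singleton_closedPoint R).preimage (b ≫ p).continuous
  have hr : Set.range (phi p t b) = (pullback.snd t b) ⁻¹' F := by
    rw [range_phi]
    ext a
    have h2 : t (pullback.fst t b a) = b (pullback.snd t b a) := by
      rw [← Scheme.Hom.comp_apply, ← Scheme.Hom.comp_apply, pullback.condition]
    change p (t (pullback.fst t b a)) = _ ↔ p (b (pullback.snd t b a)) = _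
    rw [h2]
  let e : ↥(pullback (pullback.fst (t ≫ p) (resPt R) ≫ t) b) ≃ₜ ↥((pullback.snd t b) ⁻¹' F) :=
    (phi p t b).isClosedEmbedding.isEmbedding.toHomeomorph.trans (Homeomorph.setCongr hr)
  have he : ∀ v, ((e v : ↥((pullback.snd t b) ⁻¹' F)) : ↥(pullback t b)) = phi p t b v := fun v => rfl
  obtain ⟨M, m, hm, y', hy', k'', hk'', H⟩ := h₁ (pullback.snd t b) inferInstance F hF G (fun a => k (e.symm a))
    (hk.comp_continuous e.symm.continuous) y hy
  let ψ : pullback t (m ≫ b) ⟶ pullback (pullback.snd t b) m :=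
    pullback.lift (pullback.lift (pullback.fst _ _) (pullback.snd _ _ ≫ m)
      (by rw [pullback.condition, Category.assoc])) (pullback.snd _ _) (by rw [pullback.lift_snd])
  refine ⟨M, m, hm, y', hy', fun a => k'' (ψ a), hk''.comp_continuous ψ.continuous, ?_⟩
  intro K _ _ z l e1 e2
  have e3 : (z ≫ pullback.fst (t ≫ p) (resPt R)) ≫ t = (l ≫ m) ≫ b := by rw [e2, Category.assoc]
  have h1 : (pullback.lift (z ≫ pullback.fst (t ≫ p) (resPt R)) l e2 ≫ ψ) ≫ pullback.fst (pullback.snd t b) m =
      pullback.lift z (l ≫ m) e1 ≫ phi p t b := by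
    rw [lift_phi p t b z (l ≫ m) e1 e3, Category.assoc, pullback.lift_fst]
    apply pullback.hom_ext
    · rw [Category.assoc, pullback.lift_fst, pullback.lift_fst, pullback.lift_fst]
    · rw [Category.assoc, pullback.lift_snd, pullback.lift_snd, pullback.lift_snd_assoc]
  have h2 : pullback.fst (pullback.snd t b) m
      (ψ (pullback.lift (z ≫ pullback.fst (t ≫ p) (resPt R)) l e2 default)) =
      phi p t b (pullback.lift z (l ≫ m) e1 default) := by
    rw [← Scheme.Hom.comp_apply, ← Scheme.Hom.comp_apply, ← Scheme.Hom.comp_apply, ← Category.assoc, h1]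
  have h3 : pullback.fst (pullback.snd t b) m
      (ψ (pullback.lift (z ≫ pullback.fst (t ≫ p) (resPt R)) l e2 default)) ∈ (pullback.snd t b) ⁻¹' F := by
    rw [h2, ← hr]
    exact ⟨_, rfl⟩
  refine (H _ h3).trans ?_
  congr 1
  rw [Homeomorph.symm_apply_eq]
  exact Subtype.ext (h2.trans (he _).symm)

end Phi

end K587.D1
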