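import Groth.Agent.Pi1.K587.D1PartA1

/-!
# Part A of D1-ES: coherence of the twisted frames
-/

set_option autoImplicit false
universe u

open CategoryTheory CategoryTheory.Limits AlgebraicGeometry IsLocalRing

namespace K587.D1

open Groth.Agent.Etrest.StrictLoc K868.Bc K260.D1

/-- The condition on the frames of a twisted restriction. -/
def Fr {G : Type} [Group G] {X Z W T : Scheme.{u}} {j : X ⟶ Z} {w : W ⟶ X} {t : T ⟶ Z} {P₀ : FEt.Cat W}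
    {ρ₀ : G →* Aut P₀} {B M : Scheme.{u}} {b : B ⟶ Z} {c : M ⟶ Z} (F : FSol t j w P₀ ρ₀ b) (m : M ⟶ B)
    (k : ↥(pullback t c) → G) (F₁ : FSol t j w P₀ ρ₀ c) (r : F₁.S.P.left ⟶ F.S.P.left) : Prop :=
  ∀ (K : Type u) [Field K] [IsAlgClosed K] (x : Spec (CommRingCat.of K) ⟶ X) (z : Spec (CommRingCat.of K) ⟶ T)
    (l : Spec (CommRingCat.of K) ⟶ M) (e : x ≫ j = l ≫ c) (e' : z ≫ t = l ≫ c) (f : x ≫ j = (l ≫ m) ≫ b)
    (f' : z ≫ t = (l ≫ m) ≫ b),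
    (xp j t c x z l e e' ≫ F₁.τ) ≫ r =
      (xp j t b x z (l ≫ m) f f' ≫ F.τ) ≫ (F.S.ρ (k (pullback.lift z l e' default))⁻¹).hom.left

section Coh

variable {R : Type u} [CommRing R] [IsLocalRing R] {G : Type} [Group G] [Finite G]
    {X Z W T : Scheme.{u}} (p : Z ⟶ Spec (CommRingCat.of R)) {j : X ⟶ Z} {w : W ⟶ X} {t : T ⟶ Z}
    {P₀ : FEt.Cat W} {ρ₀ : G →* Aut P₀} {B B' M M' : Scheme.{u}} {b : B ⟶ Z} {b' : B' ⟶ Z}
    (F : FSol t j w P₀ ρ₀ b) (F' : FSol t j w P₀ ρ₀ b') (m : M ⟶ B) (m' : M' ⟶ B')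

/-- The frames are related by `1` where the cochains bound the comparison. -/
theorem frame_eq (h₅ : ResDel.{u})
    (F₁ : FSol t j w P₀ ρ₀ (m ≫ b)) (F₁' : FSol t j w P₀ ρ₀ (m' ≫ b'))
    (r : F₁.S.P.left ⟶ F.S.P.left) (r' : F₁'.S.P.left ⟶ F'.S.P.left) (hr : IsRes F.S F₁.S m r)
    (hr' : IsRes F'.S F₁'.S m' r') (k : ↥(pullback t (m ≫ b)) → G) (k' : ↥(pullback t (m' ≫ b')) → G)
    (hτ : Fr F m k F₁ r) (hτ' : Fr F' m' k' F₁' r')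
    (C : Cmp F F') {N : Scheme.{u}} (ν : N ⟶ C.M) (n : N ⟶ M) (n' : N ⟶ M') (hn : n ≫ m = ν ≫ C.m)
    (hn' : n' ≫ m' = ν ≫ C.m') (hd : n' ≫ m' ≫ b' = n ≫ m ≫ b)
    (hE : ∀ (K : Type u) [Field K] [IsAlgClosed K] (z : Spec (CommRingCat.of K) ⟶ T)
      (l : Spec (CommRingCat.of K) ⟶ N) (e₀ : z ≫ t = (l ≫ ν) ≫ C.m ≫ b)
      (e : z ≫ t = (l ≫ n) ≫ m ≫ b) (e' : z ≫ t = (l ≫ n') ≫ m' ≫ b'),
      C.H (pullback.lift z (l ≫ ν) e₀ default) =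
        k' (pullback.lift z (l ≫ n') e' default) * (k (pullback.lift z (l ≫ n) e default))⁻¹) :
    ∃ δ : ↥(Dom F₁.S F₁'.S n rfl n' hd) → G, Del F₁.S F₁'.S n rfl n' hd δ ∧
    ∀ (K : Type u) [Field K] [IsAlgClosed K] (x : Spec (CommRingCat.of K) ⟶ X) (z : Spec (CommRingCat.of K) ⟶ T)
      (l : Spec (CommRingCat.of K) ⟶ N) (e : x ≫ j = (l ≫ n) ≫ m ≫ b) (e' : z ≫ t = (l ≫ n) ≫ m ≫ b)
      (f : x ≫ j = (l ≫ n') ≫ m' ≫ b') (f' : z ≫ t = (l ≫ n') ≫ m' ≫ b'),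
      δ (dp F₁.S F₁'.S n rfl n' hd (xp j t (m ≫ b) x z (l ≫ n) e e' ≫ F₁.τ)
        (xp j t (m' ≫ b') x z (l ≫ n') f f' ≫ F₁'.τ) l
        (F₁.xp_τ_snd _ _ _ _ _) (F₁'.xp_τ_snd _ _ _ _ _)
        ((F₁.xp_τ_fst _ _ _ _ _).trans (F₁'.xp_τ_fst _ _ _ _ _).symm) default) = 1 := by
  have hd0 : (n' ≫ m') ≫ b' = n ≫ m ≫ b := (Category.assoc _ _ _).trans hd
  have hDel := C.del.comp' (m₂ := n ≫ m) (h₂ := (Category.assoc n m b)) (m₂' := n' ≫ m') (h₂' := hd0) ν hn hn'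
  obtain ⟨δ₁, hδ₁, hδ₂⟩ := h₅ j w G P₀ ρ₀ b b' (m ≫ b) (m' ≫ b') F.S F'.S F₁.S F₁'.S m m' r r' hr hr' n n'
    (n ≫ m ≫ b) (Category.assoc _ _ _) hd0 rfl hd _ hDel
  refine ⟨δ₁, hδ₁, ?_⟩
  intro K _ _ x z l e e' f f'
  -- the auxiliary equations
  have g1 : x ≫ j = (l ≫ n ≫ m) ≫ b := by rw [e]; simp only [Category.assoc]
  have g2 : z ≫ t = (l ≫ n ≫ m) ≫ b := by rw [e']; simp only [Category.assoc]
  have g3 : x ≫ j = (l ≫ n' ≫ m') ≫ b' := by rw [f]; simp only [Category.assoc]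
  have g4 : z ≫ t = (l ≫ n' ≫ m') ≫ b' := by rw [f']; simp only [Category.assoc]
  have q1 : x ≫ j = ((l ≫ n) ≫ m) ≫ b := by rw [e]; simp only [Category.assoc]
  have q2 : z ≫ t = ((l ≫ n) ≫ m) ≫ b := by rw [e']; simp only [Category.assoc]
  have q3 : x ≫ j = ((l ≫ n') ≫ m') ≫ b' := by rw [f]; simp only [Category.assoc]
  have q4 : z ≫ t = ((l ≫ n') ≫ m') ≫ b' := by rw [f']; simp only [Category.assoc]
  have e1 := hτ K x z (l ≫ n) e e' q1 q2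
  have e1' := hτ' K x z (l ≫ n') f f' q3 q4
  have hx0 : xp j t b x z ((l ≫ n) ≫ m) q1 q2 = xp j t b x z (l ≫ n ≫ m) g1 g2 :=
    xp_congr rfl rfl (Category.assoc _ _ _) _ _ _ _
  have hx0' : xp j t b' x z ((l ≫ n') ≫ m') q3 q4 = xp j t b' x z (l ≫ n' ≫ m') g3 g4 :=
    xp_congr rfl rfl (Category.assoc _ _ _) _ _ _ _
  rw [hx0] at e1
  rw [hx0'] at e1'
  generalize hgk : (k (pullback.lift z (l ≫ n) e' default))⁻¹ = gk at e1
  generalize hgk' : (k' (pullback.lift z (l ≫ n') f' default))⁻¹ = gk' at e1'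
  have c1 : (xp j t b x z (l ≫ n ≫ m) g1 g2 ≫ F.τ) ≫ F.S.P.hom ≫ pullback.snd j b = l ≫ n ≫ m :=
    F.xp_τ_snd _ _ _ _ _
  have c1' : (xp j t b' x z (l ≫ n' ≫ m') g3 g4 ≫ F'.τ) ≫ F'.S.P.hom ≫ pullback.snd j b' = l ≫ n' ≫ m' :=
    F'.xp_τ_snd _ _ _ _ _
  have c2 : (xp j t b x z (l ≫ n ≫ m) g1 g2 ≫ F.τ) ≫ F.S.P.hom ≫ pullback.fst j b = x :=
    F.xp_τ_fst _ _ _ _ _
  have c2' : (xp j t b' x z (l ≫ n' ≫ m') g3 g4 ≫ F'.τ) ≫ F'.S.P.hom ≫ pullback.fst j b' = x :=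
    F'.xp_τ_fst _ _ _ _ _
  have hact : ∀ (a : Spec (CommRingCat.of K) ⟶ F.S.P.left) {Q : Scheme.{u}} (q : pullback j b ⟶ Q),
      (a ≫ (F.S.ρ gk).hom.left) ≫ F.S.P.hom ≫ q = a ≫ F.S.P.hom ≫ q := by
    intro a Q q
    have := K260.Dif.act_hom F.S.ρ gk
    rw [Category.assoc, ← Category.assoc (F.S.ρ gk).hom.left, this]
  have hact' : ∀ (a : Spec (CommRingCat.of K) ⟶ F'.S.P.left) {Q : Scheme.{u}} (q : pullback j b' ⟶ Q),
      (a ≫ (F'.S.ρ gk').hom.left) ≫ F'.S.P.hom ≫ q = a ≫ F'.S.P.hom ≫ q := by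
    intro a Q q
    have := K260.Dif.act_hom F'.S.ρ gk'
    rw [Category.assoc, ← Category.assoc (F'.S.ρ gk').hom.left, this]
  have d1 := (hact _ (pullback.snd j b)).trans c1
  have d1' := (hact' _ (pullback.snd j b')).trans c1'
  have d2 := (hact _ (pullback.fst j b)).trans c2
  have d2' := (hact' _ (pullback.fst j b')).trans c2'
  have h1 := hδ₂ K (xp j t (m ≫ b) x z (l ≫ n) e e' ≫ F₁.τ) (xp j t (m' ≫ b') x z (l ≫ n') f f' ≫ F₁'.τ) l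
    (F₁.xp_τ_snd _ _ _ _ _) (F₁'.xp_τ_snd _ _ _ _ _) ((F₁.xp_τ_fst _ _ _ _ _).trans (F₁'.xp_τ_fst _ _ _ _ _).symm)
    (by rw [e1]; exact d1) (by rw [e1']; exact d1') (by rw [e1, e1']; exact d2.trans d2'.symm)
  refine h1.trans ?_
  rw [dp_congr F.S F'.S (n ≫ m) _ (n' ≫ m') _ e1 e1' rfl _ _ _ d1 d1' (d2.trans d2'.symm)]
  have h2 := hDel.act K _ _ l c1 c1' (c2.trans c2'.symm) gk gk' d1 d1' (d2.trans d2'.symm)
  refine h2.trans ?_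
  have r1 : x ≫ j = (l ≫ ν) ≫ C.m ≫ b := by
    rw [g1, hn]; simp only [Category.assoc]
  have r2 : z ≫ t = (l ≫ ν) ≫ C.m ≫ b := by
    rw [g2, hn]; simp only [Category.assoc]
  have r3 : x ≫ j = ((l ≫ ν) ≫ C.m) ≫ b := by rw [r1]; simp only [Category.assoc]
  have r4 : z ≫ t = ((l ≫ ν) ≫ C.m) ≫ b := by rw [r2]; simp only [Category.assoc]
  have r5 : x ≫ j = ((l ≫ ν) ≫ C.m') ≫ b' := by rw [g3, hn']; simp only [Category.assoc]
  have r6 : z ≫ t = ((l ≫ ν) ≫ C.m') ≫ b' := by rw [g4, hn']; simp only [Category.assoc]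
  have h3 := C.eq (xp j t (C.m ≫ b) x z (l ≫ ν) r1 r2 default)
  rw [← Scheme.Hom.comp_apply, ← Scheme.Hom.comp_apply, xp_xq, 
    xp_xdp F F' C.m rfl C.m' C.h x z (l ≫ ν) r1 r2 r3 r4 r5 r6] at h3
  have s1 : xp j t b x z (l ≫ n ≫ m) g1 g2 = xp j t b x z ((l ≫ ν) ≫ C.m) r3 r4 :=
    xp_congr rfl rfl (by rw [hn, Category.assoc]) _ _ _ _
  have s2 : xp j t b' x z (l ≫ n' ≫ m') g3 g4 = xp j t b' x z ((l ≫ ν) ≫ C.m') r5 r6 :=
    xp_congr rfl rfl (by rw [hn', Category.assoc]) _ _ _ _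
  have u1 : (xp j t b x z (l ≫ n ≫ m) g1 g2 ≫ F.τ) ≫ F.S.P.hom ≫ pullback.snd j b = (l ≫ ν) ≫ C.m := by
    rw [c1, hn, Category.assoc]
  have u2 : (xp j t b' x z (l ≫ n' ≫ m') g3 g4 ≫ F'.τ) ≫ F'.S.P.hom ≫ pullback.snd j b' = (l ≫ ν) ≫ C.m' := by
    rw [c1', hn', Category.assoc]
  have h4 := dp_dmg F.S F'.S (h := rfl) (h' := C.h) (h₂ := (Category.assoc n m b)) (h₂' := hd0) ν hn hn'
    _ _ l c1 c1' (c2.trans c2'.symm) u1 u2
  have h5 := dp_congr F.S F'.S C.m rfl C.m' C.h (congrArg (· ≫ F.τ) s1) (congrArg (· ≫ F'.τ) s2)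
    (rfl : l ≫ ν = l ≫ ν) u1 u2 (c2.trans c2'.symm) (F.xp_τ_snd _ _ _ _ _) (F'.xp_τ_snd _ _ _ _ _)
    ((F.xp_τ_fst _ _ _ _ _).trans (F'.xp_τ_fst _ _ _ _ _).symm)
  rw [h5] at h4
  have h7 := hE K z l r2 e' f'
  rw [← h4, h7, Scheme.Hom.comp_apply] at h3
  refine (congrArg (fun q => gk' * q * gk⁻¹) h3.symm).trans ?_
  rw [← hgk, ← hgk']
  group

omit [Finite G] in
/-- The cochains bound the comparison outside of a closed subset not containing a given point of the closed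
fibre. -/
theorem exists_nbhd (ht : IsIntegralHom t) (C : Cmp F F')
    (k : ↥(pullback t (m ≫ b)) → G) (k' : ↥(pullback t (m' ≫ b')) → G)
    (hk : IsLocallyConstant k) (hk' : IsLocallyConstant k')
    (hC : ∀ (K : Type u) [Field K] [IsAlgClosed K] (z : Spec (CommRingCat.of K) ⟶ pullback (t ≫ p) (resPt R))
      (l₀ : Spec (CommRingCat.of K) ⟶ C.M) (l : Spec (CommRingCat.of K) ⟶ M) (l' : Spec (CommRingCat.of K) ⟶ M')
      (_ : l₀ ≫ C.m = l ≫ m) (_ : l₀ ≫ C.m' = l' ≫ m')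
      (e₀ : (z ≫ pullback.fst (t ≫ p) (resPt R)) ≫ t = l₀ ≫ C.m ≫ b)
      (e : (z ≫ pullback.fst (t ≫ p) (resPt R)) ≫ t = l ≫ m ≫ b)
      (e' : (z ≫ pullback.fst (t ≫ p) (resPt R)) ≫ t = l' ≫ m' ≫ b'),
      C.H (pullback.lift (z ≫ pullback.fst (t ≫ p) (resPt R)) l₀ e₀ default) =
        k' (pullback.lift (z ≫ pullback.fst (t ≫ p) (resPt R)) l' e' default) *
          (k (pullback.lift (z ≫ pullback.fst (t ≫ p) (resPt R)) l e default))⁻¹)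
    {N₀ : Scheme.{u}} (ν : N₀ ⟶ C.M) (n : N₀ ⟶ M) (n' : N₀ ⟶ M') (hn : n ≫ m = ν ≫ C.m)
    (hn' : n' ≫ m' = ν ≫ C.m') (hd : n' ≫ m' ≫ b' = n ≫ m ≫ b) (y₂ : N₀)
    (hy₂ : p ((n ≫ m ≫ b) y₂) = closedPoint R) :
    ∃ O : N₀.Opens, y₂ ∈ O ∧ ∀ (K : Type u) [Field K] [IsAlgClosed K] (z : Spec (CommRingCat.of K) ⟶ T)
      (l : Spec (CommRingCat.of K) ⟶ O.toScheme) (e₀ : z ≫ t = (l ≫ O.ι ≫ ν) ≫ C.m ≫ b)
      (e : z ≫ t = (l ≫ O.ι ≫ n) ≫ m ≫ b) (e' : z ≫ t = (l ≫ O.ι ≫ n') ≫ m' ≫ b'),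
      C.H (pullback.lift z (l ≫ O.ι ≫ ν) e₀ default) =
        k' (pullback.lift z (l ≫ O.ι ≫ n') e' default) * (k (pullback.lift z (l ≫ O.ι ≫ n) e default))⁻¹ := by
  have hν : ν ≫ C.m ≫ b = n ≫ m ≫ b := by rw [← Category.assoc, ← hn, Category.assoc]
  let E : ↥(pullback t (n ≫ m ≫ b)) → G := fun a =>
    (k' (tmap t n' hd a))⁻¹ * C.H (tmap t ν hν a) * k (tmap t n rfl a)
  have hE : IsLocallyConstant E := by
    refine IsLocallyConstant.mul (IsLocallyConstant.mul (IsLocallyConstant.inv ?_) ?_) ?_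
    · exact hk'.comp_continuous (tmap t n' hd).continuous
    · exact C.lc.comp_continuous (tmap t ν hν).continuous
    · exact hk.comp_continuous (tmap t n rfl).continuous
  have hEval : ∀ (K : Type u) [Field K] [IsAlgClosed K] (z : Spec (CommRingCat.of K) ⟶ T)
      (l : Spec (CommRingCat.of K) ⟶ N₀) (e : z ≫ t = l ≫ n ≫ m ≫ b) (e₀ : z ≫ t = (l ≫ ν) ≫ C.m ≫ b)
      (e₁ : z ≫ t = (l ≫ n) ≫ m ≫ b) (e₂ : z ≫ t = (l ≫ n') ≫ m' ≫ b'),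
      E (pullback.lift z l e default) = (k' (pullback.lift z (l ≫ n') e₂ default))⁻¹ *
        C.H (pullback.lift z (l ≫ ν) e₀ default) * k (pullback.lift z (l ≫ n) e₁ default) := by
    intro K _ _ z l e e₀ e₁ e₂
    change (k' _)⁻¹ * C.H _ * k _ = _
    rw [← Scheme.Hom.comp_apply, ← Scheme.Hom.comp_apply, ← Scheme.Hom.comp_apply,
      lift_tmap n' hd _ l e e₂, lift_tmap ν hν _ l e e₀, lift_tmap n rfl _ l e e₁]
  let V : Set N₀ := pullback.snd t (n ≫ m ≫ b) '' {a | E a ≠ 1}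
  have hV : IsClosed V := by
    have h1 : IsIntegralHom (pullback.snd t (n ≫ m ≫ b)) := inferInstance
    refine (pullback.snd t (n ≫ m ≫ b)).isClosedMap _ ?_
    exact (hE.isClopen_fiber 1).compl.isClosed
  have hy2V : y₂ ∉ V := by
    rintro ⟨a, ha, rfl⟩
    apply ha
    have h1 : p (t (pullback.fst t (n ≫ m ≫ b) a)) = closedPoint R := by
      rw [← hy₂, ← Scheme.Hom.comp_apply (pullback.fst t (n ≫ m ≫ b)), pullback.condition, Scheme.Hom.comp_apply]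
    obtain ⟨K, _, _, z, l, e, e', rfl⟩ := exists_pt_closed p t (n ≫ m ≫ b) a h1
    have e₀ : (z ≫ pullback.fst (t ≫ p) (resPt R)) ≫ t = (l ≫ ν) ≫ C.m ≫ b := by
      rw [e', ← hν, Category.assoc]
    have e₁ : (z ≫ pullback.fst (t ≫ p) (resPt R)) ≫ t = (l ≫ n) ≫ m ≫ b := by
      rw [e', Category.assoc]
    have e₂ : (z ≫ pullback.fst (t ≫ p) (resPt R)) ≫ t = (l ≫ n') ≫ m' ≫ b' := by
      rw [e', Category.assoc, hd]
    have h3 := hC K z (l ≫ ν) (l ≫ n) (l ≫ n') (by rw [Category.assoc, Category.assoc, hn])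
      (by rw [Category.assoc, Category.assoc, hn']) e₀ e₁ e₂
    rw [hEval K _ l e' e₀ e₁ e₂, h3]
    group
  obtain ⟨O, hO⟩ : ∃ O : N₀.Opens, ∀ a, a ∈ O ↔ a ∉ V := ⟨⟨Vᶜ, hV.isOpen_compl⟩, fun a => Iff.rfl⟩
  refine ⟨O, (hO _).2 hy2V, ?_⟩
  intro K _ _ z l e₀ e e'
  have e3 : z ≫ t = (l ≫ O.ι) ≫ n ≫ m ≫ b := by rw [e]; simp only [Category.assoc]
  have h1 : E (pullback.lift z (l ≫ O.ι) e3 default) = 1 := by
    by_contra hne
    have h2 : pullback.snd t (n ≫ m ≫ b) (pullback.lift z (l ≫ O.ι) e3 default) ∈ O := by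
      rw [← Scheme.Hom.comp_apply, pullback.lift_snd, Scheme.Hom.comp_apply]
      exact (l default).2
    exact (hO _).1 h2 ⟨_, hne, rfl⟩
  have f0 : z ≫ t = ((l ≫ O.ι) ≫ ν) ≫ C.m ≫ b := by rw [e₀]; simp only [Category.assoc]
  have f1 : z ≫ t = ((l ≫ O.ι) ≫ n) ≫ m ≫ b := by rw [e]; simp only [Category.assoc]
  have f2 : z ≫ t = ((l ≫ O.ι) ≫ n') ≫ m' ≫ b' := by rw [e']; simp only [Category.assoc]
  rw [hEval K z (l ≫ O.ι) e3 f0 f1 f2] at h1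
  have g0 : pullback.lift z ((l ≫ O.ι) ≫ ν) f0 = pullback.lift z (l ≫ O.ι ≫ ν) e₀ := by
    congr 1
  have g1 : pullback.lift z ((l ≫ O.ι) ≫ n) f1 = pullback.lift z (l ≫ O.ι ≫ n) e := by
    congr 1
  have g2 : pullback.lift z ((l ≫ O.ι) ≫ n') f2 = pullback.lift z (l ≫ O.ι ≫ n') e' := by
    congr 1
  rw [g0, g1, g2, mul_assoc, inv_mul_eq_one] at h1
  rw [eq_mul_inv_iff_mul_eq]
  exact h1.symm

/-- Twisted restrictions of framed local solutions are coherent. -/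
theorem cohAt_of (h₅ : ResDel.{u}) (ht : IsIntegralHom t)
    (F₁ : FSol t j w P₀ ρ₀ (m ≫ b)) (F₁' : FSol t j w P₀ ρ₀ (m' ≫ b'))
    (r : F₁.S.P.left ⟶ F.S.P.left) (r' : F₁'.S.P.left ⟶ F'.S.P.left) (hr : IsRes F.S F₁.S m r)
    (hr' : IsRes F'.S F₁'.S m' r') (k : ↥(pullback t (m ≫ b)) → G) (k' : ↥(pullback t (m' ≫ b')) → G)
    (hk : IsLocallyConstant k) (hk' : IsLocallyConstant k') (hτ : Fr F m k F₁ r) (hτ' : Fr F' m' k' F₁' r')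
    (C : Cmp F F')
    (hC : ∀ (K : Type u) [Field K] [IsAlgClosed K] (z : Spec (CommRingCat.of K) ⟶ pullback (t ≫ p) (resPt R))
      (l₀ : Spec (CommRingCat.of K) ⟶ C.M) (l : Spec (CommRingCat.of K) ⟶ M) (l' : Spec (CommRingCat.of K) ⟶ M')
      (_ : l₀ ≫ C.m = l ≫ m) (_ : l₀ ≫ C.m' = l' ≫ m')
      (e₀ : (z ≫ pullback.fst (t ≫ p) (resPt R)) ≫ t = l₀ ≫ C.m ≫ b)
      (e : (z ≫ pullback.fst (t ≫ p) (resPt R)) ≫ t = l ≫ m ≫ b)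
      (e' : (z ≫ pullback.fst (t ≫ p) (resPt R)) ≫ t = l' ≫ m' ≫ b'),
      C.H (pullback.lift (z ≫ pullback.fst (t ≫ p) (resPt R)) l₀ e₀ default) =
        k' (pullback.lift (z ≫ pullback.fst (t ≫ p) (resPt R)) l' e' default) *
          (k (pullback.lift (z ≫ pullback.fst (t ≫ p) (resPt R)) l e default))⁻¹)
    (y : ↥(pullback (m ≫ b) (m' ≫ b'))) (hy : p ((m ≫ b) (pullback.fst (m ≫ b) (m' ≫ b') y)) = closedPoint R)
    (μ : pullback (m ≫ b) (m' ≫ b') ⟶ pullback b b')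
    (hμ1 : μ ≫ pullback.fst b b' = pullback.fst (m ≫ b) (m' ≫ b') ≫ m)
    (hμ2 : μ ≫ pullback.snd b b' = pullback.snd (m ≫ b) (m' ≫ b') ≫ m')
    (y₁ : C.M) (hy₁ : pullback.lift C.m C.m' C.h.symm y₁ = μ y) :
    CohAt F₁ F₁' y := by
  obtain ⟨y₂, hy2, hy3⟩ := Scheme.Pullback.exists_preimage_pullback y₁ y hy₁
  have hσ : Etale (pullback.snd (pullback.lift C.m C.m' C.h.symm) μ) := by
    have := C.et
    infer_instance
  have hcond : pullback.fst (pullback.lift C.m C.m' C.h.symm) μ ≫ pullback.lift C.m C.m' C.h.symm =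
    pullback.snd (pullback.lift C.m C.m' C.h.symm) μ ≫ μ := pullback.condition
  revert hy2 hy3 hσ hcond y₂
  generalize pullback.fst (pullback.lift C.m C.m' C.h.symm) μ = ν
  generalize pullback.snd (pullback.lift C.m C.m' C.h.symm) μ = σ
  generalize pullback (pullback.lift C.m C.m' C.h.symm) μ = N₀ at ν σ
  intro y₂ hy2 hy3 hσ hcond
  have hn : (σ ≫ pullback.fst _ _) ≫ m = ν ≫ C.m := by
    have h1 := congrArg (· ≫ pullback.fst b b') hcond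
    simp only [Category.assoc, pullback.lift_fst, hμ1] at h1
    rw [h1, Category.assoc]
  have hn' : (σ ≫ pullback.snd _ _) ≫ m' = ν ≫ C.m' := by
    have h1 := congrArg (· ≫ pullback.snd b b') hcond
    simp only [Category.assoc, pullback.lift_snd, hμ2] at h1
    rw [h1, Category.assoc]
  have hd : (σ ≫ pullback.snd _ _) ≫ m' ≫ b' = (σ ≫ pullback.fst _ _) ≫ m ≫ b := by
    rw [Category.assoc, Category.assoc, pullback.condition]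
  have hy₂ : p (((σ ≫ pullback.fst _ _) ≫ m ≫ b) y₂) = closedPoint R := by
    rw [← hy, Category.assoc, Scheme.Hom.comp_apply, Scheme.Hom.comp_apply, hy3]
  obtain ⟨O, hO, hO'⟩ := exists_nbhd p F F' m m' ht C k k' hk hk' hC ν (σ ≫ pullback.fst _ _)
    (σ ≫ pullback.snd _ _) hn hn' hd y₂ hy₂
  have hN : (O.ι ≫ σ ≫ pullback.snd _ _) ≫ m' ≫ b' = (O.ι ≫ σ ≫ pullback.fst _ _) ≫ m ≫ b :=
    (Category.assoc _ _ _).trans ((congrArg (O.ι ≫ ·) hd).trans (Category.assoc _ _ _).symm)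
  obtain ⟨δ, hδ, hδ'⟩ := frame_eq F F' m m' h₅ F₁ F₁' r r' hr hr' k k' hτ hτ' C (O.ι ≫ ν)
    (O.ι ≫ σ ≫ pullback.fst _ _) (O.ι ≫ σ ≫ pullback.snd _ _) (by rw [Category.assoc, hn, Category.assoc])
    (by rw [Category.assoc, hn', Category.assoc]) hN hO'
  have hlift : pullback.lift (O.ι ≫ σ ≫ pullback.fst _ _) (O.ι ≫ σ ≫ pullback.snd _ _) hN.symm = O.ι ≫ σ := by
    apply pullback.hom_ext
    · rw [pullback.lift_fst, Category.assoc]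
    · rw [pullback.lift_snd, Category.assoc]
  refine ⟨O.toScheme, O.ι ≫ σ ≫ pullback.fst _ _, O.ι ≫ σ ≫ pullback.snd _ _, hN, ?_, ⟨y₂, hO⟩, ?_, δ, hδ, hδ'⟩
  · rw [hlift]; infer_instance
  · rw [hlift]
    exact (Scheme.Hom.comp_apply O.ι σ _).trans hy3

end Coh

end K587.D1
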